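import Cfsg.Agent.FM.Eng2
import Cfsg.Agent.FM.T22
import Cfsg.Agent.FM.Ls22

set_option autoImplicit false
set_option maxRecDepth 100000
set_option Elab.async false

namespace Cfsg.Agent.FM.C22.C2c

open Cfsg.Agent.FM Cfsg.Agent.FM.Mdl Cfsg.Agent.FM.F22

def Xs : List Ex := [(.ps [10, 693, 0])]
noncomputable def Zs : List ℕ := []
noncomputable def Zsl : List (List ℕ) := []
def gens : List Ex := [(.w [0]), (.w [5]), (.w [6]), (.w [7]), (.w [2]), (.w [4]), (.ps [351]), (.ps [696, 695, 270, 0, 314, 13, 77, 105]), (.ps [911, 873, 634, 241, 11, 47, 21, 66, 105]), (.ps [476, 0, 388, 22, 314, 10, 77, 46]), (.ps [703, 706, 665, 234, 13, 77, 105, 46]), (.ps [286]), (.ps [258]), (.ps [18]), (.ps [205]), (.ps [628]), (.ps [610]), (.ps [99]), (.ps [3182, 699, 32, 70]), (.ps [258, 1, 5, 105, 46]), (.ps [195]), (.ps [696, 695, 109, 10, 107, 105]), (.ps [2702, 695, 67, 13, 66, 107])]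
def aux : List Ex := []
noncomputable def r3 : List ℕ := (decQ [0xd8c00b8300a5b009270036a002bf000300002b00003])
noncomputable def r6 : List ℕ := (decQ [0x8d8008d7007750075e002b20029a00299002950029000256001ba0008c])

theorem k0 : cd.rej ⟨[], Xs, Zs⟩ ⟨[], Xs, Zs⟩ [] 3014 (.cx [.var] (.and (.adj 0) (.fix 0)) 6 .tt) [42] = true := by decide +kernel
theorem k1 : cd.rej ⟨[], Xs, Zs⟩ ⟨[], Xs, Zs⟩ [] 3014 (.eq .var (.app 0 .var) false (.comm .var (.app 0 .var) false .tt)) [0, 1, 47, 534] = true := by decide +kernel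
theorem k2 : cd.lvl [] Xs Zs [] .all 3014 [[42], [0, 1, 47, 534]] (sel gens [0, 1, 2, 3, 4, 5, 6, 7, 8, 9, 10, 11, 12, 13]) (decR [0x5994248d032086710cc520c41]) (.simd (decR [0xdc26898218883118a1])) 1536 = true := by decide +kernel
theorem k4 : cd.rej ⟨[3014], Xs, Zs⟩ ⟨[3014], Xs, Zs⟩ [] 695 (.comm .var (.app 0 .var) true (.eq .var (.app 0 .var) false (.comm (.tr (.tr (.pt 0) (.app 0 (.pt 0))) .var) (.tr (.pt 0) (.app 0 .var)) false .tt))) r3 = true := by decide +kernel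
theorem k5 : cd.lvl [3014] Xs Zs [(.app 0 (.pt 0)), (.tr (.pt 1) (.app 0 (.pt 1)))] (.dif (.dif (.dif .all (.adj 2)) (.adj 1)) (.adj 0)) 695 [r3] (sel gens [6, 14, 15, 16, 17, 18, 19, 20]) (decR [0xc6398e631cc520c41]) (.stk (decR [0x8421184211842312423110624846228c47088690886610d01184211842108c2108c2118921188c31242311462384211842311823084622042118423118230846248c21188a311c6108c450842308421184231106230c44188e1104221982208443284210882110cc110421088210882108441084220844320869084211042108423084622046108c490882110c82198410886410d0110cc1184231142219043, 0x846108c46084230842308462484211842118423124231182108821084410842208443308650844108422084433042208443284410886408441084230846248461084210844108864084211042219821088210882110cc108441088650842208443304410886910c8208421104221a4433842118423110211842108c2118883118220844328c2108461084230846220c46188e108c2108c2118921188c308423, 0x10422198220842108c21084211842108c211888108c21188c3124610842108c21188c118421]))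 288 = true := by decide +kernel
theorem k7 : cd.rej ⟨[695, 3014], Xs, Zs⟩ ⟨[695, 3014], Xs, Zs⟩ [] 694 (.comm .var (.app 0 .var) true (.eq .var (.app 0 .var) false .tt)) r6 = true := by decide +kernel
theorem k8 : cd.lvl [695, 3014] Xs Zs [(.tr (.app 0 (.pt 0)) (.tr (.pt 1) (.app 0 (.pt 1)))), (.tr (.pt 2) (.tr (.pt 1) (.app 0 (.tr (.pt 1) (.pt 2))))), (.tr (.pt 2) (.tr (.pt 3) (.app 0 (.pt 3))))] (.dif (.and (.and (.adj 2) (.adj 1)) (.adj 0)) (.adj 3)) 694 [r6] (sel gens [21, 22]) [] (.stk (decR [0x10c22])) 4 = true := by decide +kernel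
theorem k10 : cd.nmOut ⟨[2, 694, 695, 3014], Xs, Zs⟩ ⟨[248, 694, 695, 3014], Xs, Zs⟩ [(.tr (.tr (.pt 3) (.app 0 (.pt 2))) (.tr (.tr (.pt 2) (.pt 3)) (.tr (.tr (.pt 0) (.app 0 (.pt 1))) (.tr (.tr (.pt 1) (.pt 3)) (.pt 0))))), (.tr (.tr (.pt 4) (.app 0 (.pt 2))) (.tr (.tr (.pt 1) (.app 0 (.pt 4))) (.tr (.tr (.pt 4) (.app 0 (.pt 4))) (.app 0 (.pt 3))))), (.tr (.app 0 (.pt 4)) (.tr (.tr (.pt 5) (.app 0 (.pt 5))) (.tr (.tr (.pt 4) (.app 0 (.pt 5))) (.pt 3)))), (.tr (.tr (.pt 4) (.pt 5)) (.pt 3)), (.tr (.pt 5) (.pt 6)), (.tr (.app 0 (.pt 6)) (.tr (.tr (.pt 6) (.app 0 (.pt 8))) (.tr (.tr (.pt 8) (.app 0 (.pt 7))) (.pt 6))))] F22.Ls [5, 4, 3, 2, 1] (.ps [234, 47]) 0 = true := by decide +kernel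
theorem k11 : cd.lvl [694, 695, 3014] Xs Zs [(.app 0 (.pt 1)), (.tr (.pt 3) (.tr (.pt 1) (.pt 2))), (.tr (.pt 2) (.app 0 (.tr (.pt 2) (.pt 4))))] (.and (.and (.and (.adj 3) (.adj 2)) (.adj 1)) (.adj 0)) 2 [[248]] (sel gens []) [] (.stk []) 1 = true := by decide +kernel
theorem k12 : (cd.ltL [2, 694, 695, 3014] && subL cd.bs (cd.ext ⟨[2, 694, 695, 3014], Xs, Zs⟩ [(.tr (.pt 1) (.pt 2)), (.tr (.app 0 (.pt 2)) (.tr (.tr (.pt 2) (.app 0 (.pt 4))) (.tr (.tr (.pt 4) (.app 0 (.pt 3))) (.pt 2)))), (.tr (.tr (.pt 4) (.app 0 (.pt 5))) (.tr (.tr (.pt 4) (.pt 5)) (.tr (.tr (.pt 2) (.app 0 (.pt 5))) (.tr (.pt 5) (.app 0 (.pt 3)))))), (.tr (.app 0 (.pt 6)) (.tr (.tr (.pt 6) (.app 0 (.pt 4))) (.tr (.tr (.pt 4) (.app 0 (.pt 6))) (.tr (.tr (.pt 4) (.pt 5)) (.pt 3))))), (.tr (.tr (.pt 5) (.app 0 (.pt 7))) (.tr (.tr (.pt 7) (.app 0 (.pt 5))) (.tr (.tr (.pt 7) (.app 0 (.pt 6))) (.app 0 (.pt 4))))),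 (.tr (.tr (.pt 8) (.app 0 (.pt 7))) (.tr (.tr (.pt 5) (.app 0 (.pt 8))) (.tr (.tr (.pt 7) (.pt 8)) (.tr (.tr (.pt 8) (.app 0 (.pt 8))) (.pt 6)))))])) = true := by decide +kernel
theorem k13 : cd.memCS Xs Zs Zsl gens = true := by decide +kernel
theorem k14 : cd.memCS Xs Zs Zsl aux = true := by decide +kernel

theorem gens_CS {G : Type*} [Group G] {D : Set G} (M : Mdl G D cd) : ∀ a ∈ gens, M.ev a ∈ M.CS Xs Zs :=
  memCS_spec k13

theorem aux_CS {G : Type*} [Group G] {D : Set G} (M : Mdl G D cd) : ∀ a ∈ aux, M.ev a ∈ M.CS Xs Zs :=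
  memCS_spec k14

theorem n9 {G : Type*} [Group G] {D : Set G} (M : Mdl G D cd) (hs : M.FixL F22.Ls = ⊥) : M.NoMap ⟨[2, 694, 695, 3014], Xs, Zs⟩ ⟨[248, 694, 695, 3014], Xs, Zs⟩ :=
  nm_out hs k10

theorem res {G : Type*} [Group G] {D : Set G} (M : Mdl G D cd) (hs : M.FixL F22.Ls = ⊥) {K : Subgroup G} (hK : ∀ a ∈ gens, M.ev a ∈ K) :
    Res (M.CS Xs Zs ⊓ M.FixL []) K 1769472 := by
  have h := stab_CS (M := M) Xs Zs
  have hG := mem_inf_of (gens_CS M) hK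
  refine Res.cast (N := (1536 * (288 * (4 * (1 * 1))))) ?_ rfl
  exact lvl_step h (sel_mem hG _) k2
    (NoMaps.rej k0 (NoMaps.rej k1 NoMaps.nil)) <|
  lvl_step h (sel_mem hG _) k5
    (NoMaps.rej k4 NoMaps.nil) <|
  lvl_step h (sel_mem hG _) k8
    (NoMaps.rej k7 NoMaps.nil) <|
  lvl_step h (sel_mem hG _) k11
    (NoMaps.one (n9 M hs) NoMaps.nil) <|
  base h [(.tr (.pt 1) (.pt 2)), (.tr (.app 0 (.pt 2)) (.tr (.tr (.pt 2) (.app 0 (.pt 4))) (.tr (.tr (.pt 4) (.app 0 (.pt 3))) (.pt 2)))), (.tr (.tr (.pt 4) (.app 0 (.pt 5))) (.tr (.tr (.pt 4) (.pt 5)) (.tr (.tr (.pt 2) (.app 0 (.pt 5))) (.tr (.pt 5) (.app 0 (.pt 3)))))), (.tr (.app 0 (.pt 6)) (.tr (.tr (.pt 6) (.app 0 (.pt 4))) (.tr (.tr (.pt 4) (.app 0 (.pt 6))) (.tr (.tr (.pt 4) (.pt 5)) (.pt 3))))), (.tr (.tr (.pt 5) (.app 0 (.pt 7))) (.tr (.tr (.pt 7) (.app 0 (.pt 5))) (.tr (.tr (.pt 7) (.app 0 (.pt 6))) (.app 0 (.pt 4))))),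 (.tr (.tr (.pt 8) (.app 0 (.pt 7))) (.tr (.tr (.pt 5) (.app 0 (.pt 8))) (.tr (.tr (.pt 7) (.pt 8)) (.tr (.tr (.pt 8) (.app 0 (.pt 8))) (.pt 6)))))] (List.cons_ne_nil _ _) k12

theorem card {G : Type*} [Group G] {D : Set G} (M : Mdl G D cd) (hs : M.FixL F22.Ls = ⊥) : Nat.card ↥(M.CS Xs Zs ⊓ M.FixL []) = 1769472 :=
  (res M hs (K := ⊤) fun _ _ => trivial).2

end Cfsg.Agent.FM.C22.C2c
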